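import Groth.Agent.EtColim.CohColimLarge
import Groth.Agent.EtConsAb.PullTriv
import Groth.Agent.EtConsAb.ConstMod
import Groth.Agent.EtDepthLib.Clopen
import Groth.Agent.EtaleSite.SH
import Groth.Agent.EtaleSite.HpullComp
import Groth.Agent.EtaleSite.HpullSeq
import Mathlib.GroupTheory.FiniteAbelian.Basic

/-!
# Locally constant torsion sheaves and schemes with the cohomology of a point

* `exists_iso_const`: on a strictly henselian local scheme trivialised sheaves are constant.
* `subsingleton_H_const`: vanishing for torsion values from vanishing for `ℤ/n`.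
* `cst_surjective`: sections of constant sheaves when `H^0(W, ℤ/n) ≅ ℤ/n`.
* `Hpull_bijective_const`: degree `0` comparison.
-/

set_option autoImplicit false

universe u

open CategoryTheory CategoryTheory.Limits AlgebraicGeometry Opposite

namespace Groth.Agent.EtRestLib

open EtaleSite.ConstSections (cst cSheaf map_cst cst_injective)

section StrictlyHenselian

variable (R : Type u) [CommRing R] [HenselianLocalRing R] [IsSepClosed (IsLocalRing.ResidueField R)]

theorem exists_iso_const (G : EtCoh.Ab (Spec (CommRingCat.of R))) (V : (Spec (CommRingCat.of R)).Etale)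
    (y : (Scheme.pointSmallEtale (EtaleSite.closedPt R)).fiber.obj V)
    {M : Type (u + 1)} [AddCommGroup M] (m : M →+ G.obj.obj (op V))
    (hm : EtConsAb.IsTriv G V M m) :
    Nonempty (G ≅ cSheaf (Spec (CommRingCat.of R)) (AddCommGrpCat.of M)) := by
  let S := Spec (CommRingCat.of R)
  obtain ⟨s, -⟩ := EtaleSite.exists_from_top R V y
  let m' : M →+ G.obj.obj (op (EtCoh.top S)) := (G.obj.map s.op).hom.comp m
  have hm' : EtConsAb.IsTriv G (EtCoh.top S) M m' := hm.restrict s
  let η : (Functor.const S.Etaleᵒᵖ).obj (AddCommGrpCat.of M) ⟶ G.obj :=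
    { app := fun W => AddCommGrpCat.ofHom
        ((G.obj.map ((EtCore.topIsTerminal S).from W.unop).op).hom.comp m')
      naturality := fun W W' g => by
        ext x
        show G.obj.map ((EtCore.topIsTerminal S).from W'.unop).op (m' x) =
          G.obj.map g (G.obj.map ((EtCore.topIsTerminal S).from W.unop).op (m' x))
        rw [← ConcreteCategory.comp_apply, ← Functor.map_comp]
        congr 3
        exact Quiver.Hom.unop_inj ((EtCore.topIsTerminal S).hom_ext _ _) }
  let φ : cSheaf S (AddCommGrpCat.of M) ⟶ G := ⟨sheafifyLift S.smallEtaleTopology η G.property⟩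
  have hφ : ∀ x : M, φ.hom.app (op (EtCoh.top S)) (cst (EtCoh.top S) x) = m' x := fun x => by
    have h := ConcreteCategory.congr_hom (congrArg (fun q => q.app (op (EtCoh.top S)))
      (toSheafify_sheafifyLift S.smallEtaleTopology η G.property)) x
    refine h.trans ?_
    show G.obj.map ((EtCore.topIsTerminal S).from (EtCoh.top S)).op (m' x) = m' x
    rw [(EtCore.topIsTerminal S).hom_ext ((EtCore.topIsTerminal S).from _) (𝟙 _)]
    simp
  refine ⟨(@asIso _ _ _ _ φ (EtaleSite.isIso_of_stalk φ fun Ω _ _ ξ => ?_)).symm⟩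
  let t : (Scheme.pointSmallEtale ξ).fiber.obj (EtCoh.top S) := Over.homMk ξ (Category.comp_id _)
  have h1 : Function.Bijective fun x : M =>
      EtaleSite.germ ξ (cSheaf S (AddCommGrpCat.of M)) (EtCoh.top S) t (cst (EtCoh.top S) x) :=
    EtConsAb.isTriv_constSect M (EtCoh.top S) Ω ξ t
  rw [ConcreteCategory.isIso_iff_bijective, ← Function.Bijective.of_comp_iff _ h1]
  have h2 := hm' Ω ξ t
  convert h2 using 1
  funext x
  exact (EtaleSite.germ_naturality ξ φ (EtCoh.top S) t _).trans (congrArg _ (hφ x))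

/-- Sections of constant sheaves on a strictly henselian local scheme are constant. -/
theorem cst_bijective (M : AddCommGrpCat.{u + 1}) :
    Function.Bijective (fun c : M => cst (EtCoh.top (Spec (CommRingCat.of R))) c) := by
  have h := EtaleSite.bijective_germ_top R (cSheaf (Spec (CommRingCat.of R)) M)
  rw [← Function.Bijective.of_comp_iff' h]
  exact EtConsAb.isTriv_constSect M (EtCoh.top (Spec (CommRingCat.of R))) _ (EtaleSite.closedPt R)
    (EtaleSite.topPoint R)

end StrictlyHenselian

section Vanishing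

variable {W : Scheme.{u}} [CompactSpace W] [QuasiSeparatedSpace W]

/-- `M ↦ H^q(W, M)`. -/
noncomputable abbrev HC (W : Scheme.{u}) (q : ℕ) : AddCommGrpCat.{u + 1} ⥤ AddCommGrpCat.{u + 1} :=
  constantSheaf W.smallEtaleTopology AddCommGrpCat.{u + 1} ⋙ EtCoh.HF W q

instance additive_HC (W : Scheme.{u}) (q : ℕ) : (HC W q).Additive := by
  have : (EtCoh.HF W q).Additive := by unfold EtCoh.HF; infer_instance
  infer_instance

variable {P : ℕ → Prop}

omit [CompactSpace W] [QuasiSeparatedSpace W] in
theorem subsingleton_H_const_finite (q : ℕ)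
    (hP : ∀ n, P n → ∀ d, d ∣ n → P d)
    (h : ∀ n, P n → Subsingleton (EtCoh.H W (EtCoh.const W (ZMod n)) q))
    (M : AddCommGrpCat.{u + 1}) [Finite M] (hM : ∀ x : M, ∃ n, P n ∧ n • x = 0) :
    IsZero ((HC W q).obj M) := by
  classical
  obtain ⟨ι, _, p, -, e, ⟨E⟩⟩ := AddCommGroup.equiv_directSum_zmod_of_finite M
  let n : ι → ℕ := fun i => p i ^ e i
  have hn : ∀ i, P (n i) := fun i => by
    obtain ⟨k, hk, hk0⟩ := hM (E.symm (DirectSum.of (fun i => ZMod (n i)) i 1))
    refine hP k hk _ ?_
    rw [← map_nsmul, E.symm.map_eq_zero_iff, ← map_nsmul] at hk0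
    have := congrArg (fun z => z i) hk0
    simp only [DirectSum.of_eq_same] at this
    rw [nsmul_one] at this
    exact (ZMod.natCast_eq_zero_iff _ _).1 this
  let N : ι → AddCommGrpCat.{u + 1} := fun i => AddCommGrpCat.of (ULift.{u + 1} (ZMod (n i)))
  let pr : ∀ i, M ⟶ N i := fun i => AddCommGrpCat.ofHom (AddEquiv.ulift.symm.toAddMonoidHom.comp
    ((DFinsupp.evalAddMonoidHom i).comp E.toAddMonoidHom))
  let inj : ∀ i, N i ⟶ M := fun i => AddCommGrpCat.ofHom (E.symm.toAddMonoidHom.comp
    ((DirectSum.of (fun i => ZMod (n i)) i).comp AddEquiv.ulift.toAddMonoidHom))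
  have hid : 𝟙 M = ∑ i, pr i ≫ inj i := by
    ext x
    rw [show (∑ i, pr i ≫ inj i).hom = ∑ i, (pr i ≫ inj i).hom from
      map_sum (AddCommGrpCat.homAddEquiv (M := M) (N := M)) _ _, AddMonoidHom.finsetSum_apply]
    show x = ∑ i, E.symm (DirectSum.of (fun i => ZMod (n i)) i (E x i))
    rw [← map_sum, DirectSum.sum_univ_of, AddEquiv.symm_apply_apply]
  rw [IsZero.iff_id_eq_zero, ← CategoryTheory.Functor.map_id, hid, Functor.map_sum]
  refine Finset.sum_eq_zero fun i _ => ?_
  have hz : IsZero ((HC W q).obj (N i)) :=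
    @AddCommGrpCat.isZero_of_subsingleton _ (h (n i) (hn i))
  rw [Functor.map_comp, hz.eq_of_tgt ((HC W q).map (pr i)) 0, zero_comp]

theorem subsingleton_H_const (q : ℕ)
    (hP : ∀ n, P n → ∀ d, d ∣ n → P d) (hP0 : ¬ P 0)
    (h : ∀ n, P n → Subsingleton (EtCoh.H W (EtCoh.const W (ZMod n)) q))
    (M : AddCommGrpCat.{u + 1}) (hM : ∀ x : M, ∃ n, P n ∧ n • x = 0) :
    Subsingleton (EtCoh.H W (cSheaf W M) q) := by
  classical
  let J := {H : AddSubgroup M // Finite H}
  have hclos : ∀ s : Set M, s.Finite → Finite (AddSubgroup.closure s) := fun s hs => by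
    have hfg : AddGroup.FG (AddSubgroup.closure s) :=
      (AddGroup.fg_iff_addSubgroup_fg _).2 ((AddSubgroup.fg_iff _).2 ⟨s, rfl, hs⟩)
    refine AddCommGroup.finite_of_fg_torsion _ ?_
    intro x
    obtain ⟨k, hk, hk0⟩ := hM x.1
    have : k ≠ 0 := fun h => hP0 (h ▸ hk)
    exact isOfFinAddOrder_iff_nsmul_eq_zero.2 ⟨k, Nat.pos_of_ne_zero this, Subtype.ext hk0⟩
  have : Nonempty J := ⟨⟨⊥, inferInstance⟩⟩
  have : IsDirectedOrder J := ⟨fun A B => by
    have := A.2; have := B.2
    refine ⟨⟨_, hclos ((A.1 : Set M) ∪ B.1) ((Set.toFinite _).union (Set.toFinite _))⟩, ?_, ?_⟩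
    · exact fun x hx => AddSubgroup.subset_closure (Or.inl hx)
    · exact fun x hx => AddSubgroup.subset_closure (Or.inr hx)⟩
  let D : J ⥤ AddCommGrpCat.{u + 1} :=
    { obj := fun H => AddCommGrpCat.of H.1
      map := fun {A B} f => AddCommGrpCat.ofHom (AddSubgroup.inclusion f.le) }
  let c : Cocone D :=
    { pt := M
      ι := { app := fun H => AddCommGrpCat.ofHom H.1.subtype
             naturality := fun A B f => rfl } }
  have hc : IsColimit c := by
    refine Nonempty.some ⟨IsColimit.ofExistsUnique fun s => ?_⟩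
    let Hx : M → J := fun x => ⟨_, hclos {x} (Set.finite_singleton x)⟩
    let g : M → s.pt := fun x => s.ι.app (Hx x) ⟨x, AddSubgroup.subset_closure rfl⟩
    have hg : ∀ (H : J) (x : M) (hx : x ∈ H.1), g x = s.ι.app H ⟨x, hx⟩ := fun H x hx => by
      have hle : Hx x ≤ H := (AddSubgroup.closure_le _).2 (Set.singleton_subset_iff.2 hx)
      show s.ι.app (Hx x) ⟨x, _⟩ = _
      rw [← s.w (homOfLE hle)]
      rfl
    refine ⟨AddCommGrpCat.ofHom (AddMonoidHom.mk' g fun a b => ?_), fun H => ?_, fun m hm => ?_⟩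
    · let H : J := ⟨_, hclos {a, b} (Set.toFinite _)⟩
      have ha : a ∈ H.1 := AddSubgroup.subset_closure (Or.inl rfl)
      have hb : b ∈ H.1 := AddSubgroup.subset_closure (Or.inr rfl)
      rw [hg H a ha, hg H b hb, hg H (a + b) (add_mem ha hb), ← map_add]
      rfl
    · ext x
      exact hg H x.1 x.2
    · ext x
      exact ConcreteCategory.congr_hom (hm (Hx x)) ⟨x, AddSubgroup.subset_closure rfl⟩
  have : PreservesColimitsOfSize.{u + 1, u + 1} (constantSheaf W.smallEtaleTopology AddCommGrpCat.{u + 1}) :=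
    (EtCore.constAdj W).leftAdjoint_preservesColimits
  have hF := isColimitOfPreserves (constantSheaf W.smallEtaleTopology AddCommGrpCat.{u + 1}) hc
  refine subsingleton_of_forall_eq 0 fun x => ?_
  obtain ⟨H, y, rfl⟩ := (EtColim.CohColimLarge.coh_colimit q hF).1 x
  have : Finite (D.obj H) := H.2
  have hz := subsingleton_H_const_finite q hP h (D.obj H) fun z => by
    obtain ⟨k, hk, hk0⟩ := hM z.1
    exact ⟨k, hk, Subtype.ext hk0⟩
  have hsub : Subsingleton (EtCoh.H W
      ((D ⋙ constantSheaf W.smallEtaleTopology AddCommGrpCat.{u + 1}).obj H) q) :=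
    AddCommGrpCat.subsingleton_of_isZero hz
  rw [Subsingleton.elim y 0, map_zero]

end Vanishing

section DegreeZero

/-- `M → H^0(W, M)`. -/
noncomputable def toH0 (W : Scheme.{u}) (M : AddCommGrpCat.{u + 1})
    (a : AddCommGrpCat.of (ULift.{u + 1} ℤ) ⟶ M) : EtCoh.H W (cSheaf W M) 0 :=
  Abelian.Ext.mk₀ ((constantSheaf W.smallEtaleTopology AddCommGrpCat.{u + 1}).map a)

theorem toH0_bijective {W : Scheme.{u}} {M : AddCommGrpCat.{u + 1}}
    (h : Function.Bijective fun c : M => cst (EtCoh.top W) c) :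
    Function.Bijective (toH0 W M) := by
  refine (Abelian.Ext.mk₀_bijective _ _).comp ?_
  let adj := EtCore.constAdj W
  let e := adj.homEquiv (AddCommGrpCat.of (ULift.{u + 1} ℤ)) (cSheaf W M)
  refine (Function.Bijective.of_comp_iff' e.bijective _).1 ?_
  have hu : Function.Bijective (adj.unit.app M) := h
  have : IsIso (adj.unit.app M) := (ConcreteCategory.isIso_iff_bijective _).2 hu
  have heq : e ∘ (fun a => (constantSheaf W.smallEtaleTopology AddCommGrpCat.{u + 1}).map a) =
      fun a => a ≫ adj.unit.app M := funext fun a => by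
    simp only [Function.comp_apply, e, Adjunction.homEquiv_unit]
    exact (adj.unit.naturality a).symm
  show Function.Bijective (e ∘ fun a => (constantSheaf W.smallEtaleTopology AddCommGrpCat.{u + 1}).map a)
  rw [heq]
  exact ⟨fun a b hab => (cancel_mono (adj.unit.app M)).1 hab,
    fun b => ⟨b ≫ inv (adj.unit.app M), by simp⟩⟩

/-- Sections of constant sheaves are constant if `H^0(W, ℤ/n) ≅ ℤ/n`. -/
theorem cst_bijective_of_equiv {W : Scheme.{u}} {n : ℕ} (hn : 1 < n)
    (e : EtCoh.H W (EtCoh.const W (ZMod n)) 0 ≃+ ZMod n) (M : AddCommGrpCat.{u + 1}) :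
    Function.Bijective fun c : M => cst (EtCoh.top W) c := by
  have : NeZero n := ⟨by omega⟩
  have : Nontrivial (ZMod n) := ZMod.nontrivial_iff.2 (by omega)
  let N : AddCommGrpCat.{u + 1} := AddCommGrpCat.of (ULift.{u + 1} (ZMod n))
  let T := EtCoh.top W
  let E : EtCoh.sect (cSheaf W N) T ≃ ZMod n :=
    (Sheaf.H.equiv₀ (cSheaf W N) (EtCore.topIsTerminal W)).symm.toEquiv.trans e.toEquiv
  have hne : Nonempty W := by
    by_contra hW
    have : IsEmpty T.left := not_nonempty_iff.1 hW
    have := EtaleSite.sect_subsingleton_of_isEmpty (cSheaf W N) T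
    exact not_subsingleton (ZMod n) E.symm.injective.subsingleton
  obtain ⟨w⟩ := hne
  have hinj : ∀ M : AddCommGrpCat.{u + 1}, Function.Injective fun c : M => cst T c :=
    fun M c d h => cst_injective (show T.left from w) h
  have hN : Function.Surjective fun c : N => cst T c := by
    have : Finite (EtCoh.sect (cSheaf W N) T) := Finite.of_equiv _ E.symm
    have hcard : Nat.card N = Nat.card (EtCoh.sect (cSheaf W N) T) := by
      rw [Nat.card_congr E, Nat.card_congr (Equiv.ulift (α := ZMod n))]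
    exact ((Nat.bijective_iff_injective_and_card _).2 ⟨hinj N, hcard⟩).2
  have hconn : ∀ C : Set T.left, IsClopen C → C.Nonempty → C = Set.univ := fun C hC ⟨x, hx⟩ => by
    classical
    let Os : Bool → T.left.Opens := fun b => cond b ⟨C, hC.2⟩ ⟨Cᶜ, hC.compl.2⟩
    obtain ⟨s, hs⟩ := EtaleSite.exists_glue_disjoint (cSheaf W N) Os
      (fun a b hab => by
        cases a <;> cases b <;> simp_all [Os, TopologicalSpace.Opens.ext_iff, disjoint_iff])
      (fun y => by
        by_cases hy : y ∈ C
        exacts [⟨true, hy⟩, ⟨false, hy⟩])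
      (fun b => cst _ (cond b (ULift.up 1 : N) 0))
    obtain ⟨c, rfl⟩ := hN s
    refine Set.eq_univ_of_forall fun y => by_contra fun hy => ?_
    have h1 := hs true
    have h2 := hs false
    rw [map_cst] at h1 h2
    have e1 := cst_injective (W := EtaleSite.piece T (Os true)) (⟨x, hx⟩ : Os true) h1
    have e2 := cst_injective (W := EtaleSite.piece T (Os false)) (⟨y, hy⟩ : Os false) h2
    exact one_ne_zero (α := ZMod n) (congrArg ULift.down (e1.symm.trans e2))
  refine ⟨hinj M, fun s => ?_⟩
  obtain ⟨c, hc⟩ := EtDepthLib.exists_level T s w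
  have := hconn _ (EtDepthLib.isClopen_sectSupp T (s - cst T c)).compl ⟨w, hc⟩
  refine ⟨c, (sub_eq_zero.1 (EtShriekLib.eq_zero_of_sectSupp_empty _ _ ?_)).symm⟩
  exact Set.compl_univ_iff.1 this

theorem Hpull_bijective_const {W S : Scheme.{u}} (v : W ⟶ S) [PreservesFiniteLimits (EtCoh.pull v)]
    (M : AddCommGrpCat.{u + 1}) (hS : Function.Bijective fun c : M => cst (EtCoh.top S) c)
    (hW : Function.Bijective fun c : M => cst (EtCoh.top W) c) :
    Function.Bijective (EtCore.Hpull v (cSheaf S M) 0) := by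
  let ν := (EtCore.pullConstIso v).app M
  have key : (fun e : EtCoh.H W ((EtCoh.pull v).obj (cSheaf S M)) 0 =>
      e.comp (Abelian.Ext.mk₀ ν.hom) (add_zero 0)) ∘ EtCore.Hpull v (cSheaf S M) 0 ∘ toH0 S M =
      toH0 W M := funext fun a => by
    simp only [Function.comp_apply, toH0]
    refine (congrArg (fun z => Abelian.Ext.comp z (Abelian.Ext.mk₀ ν.hom) (add_zero 0))
      (EtaleSite.HpullComp.Hpull_mk₀ v _)).trans ?_
    rw [Abelian.Ext.mk₀_comp_mk₀]
    congr 1
    have h := (EtCore.pullConstIso v).hom.naturality a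
    exact (Category.assoc _ _ _).trans ((congrArg ((EtCore.pullConst v ℤ).inv ≫ ·) h).trans
      ((EtCore.pullConst v ℤ).inv_hom_id_assoc _))
  have h2 := key ▸ toH0_bijective hW
  have h3 := (Function.Bijective.of_comp_iff' (EtaleSite.HpullComp.HF_map_bijective ν.hom) _).1 h2
  exact (Function.Bijective.of_comp_iff _ (toH0_bijective hS)).1 h3

/-- `Hpull` only depends on the sheaf up to isomorphism. -/
theorem Hpull_bijective_congr {W S : Scheme.{u}} (v : W ⟶ S) [PreservesFiniteLimits (EtCoh.pull v)]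
    {F G : EtCoh.Ab S} (e : F ≅ G) (p : ℕ) (h : Function.Bijective (EtCore.Hpull v F p)) :
    Function.Bijective (EtCore.Hpull v G p) := by
  have key : (EtCore.Hpull v G p : _ → _) ∘
      (fun x : EtCoh.H S F p => x.comp (Abelian.Ext.mk₀ e.hom) (add_zero p)) =
      (fun y : EtCoh.H W ((EtCoh.pull v).obj F) p =>
        y.comp (Abelian.Ext.mk₀ ((EtCoh.pull v).map e.hom)) (add_zero p)) ∘ EtCore.Hpull v F p :=
    funext fun x => EtaleSite.HpullSeq.Hpull_postcomp v e.hom p x
  rw [← Function.Bijective.of_comp_iff _ (EtaleSite.HpullComp.HF_map_bijective e.hom), key]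
  exact (EtaleSite.HpullComp.HF_map_bijective _).comp h

end DegreeZero

end Groth.Agent.EtRestLib
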